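import Cfsg.Agent.GAL.TA.Perm
import Cfsg.Agent.GAL.Odd.Gen
import Cfsg.Agent.ODD.FA.SL

/-!
# GAL, odd `q`: `FG` for linear data and for `PSL_n(q)`, `n ≥ 3` (helper46)

* `ld_sq`, `fg_of_top`, `fg_of_delta` : linear data;
* `dSL a` : the conjugation with a diagonal matrix; `fg_sl`, **`fg_psl`**.
-/

set_option autoImplicit false
set_option linter.unusedSectionVars false

open Cfsg

namespace Cfsg.Agent.GAL.TA

open Equiv Finset Matrix CoxeterSystem Cfsg.Agent.ChevalleyStructure.CoxeterGeom Cfsg.Agent.Tits.Roots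
  Cfsg.Agent.Nodes.Reps Cfsg.Agent.Nodes.BNOf Cfsg.Agent.Nodes.Bruhat Cfsg.Agent.H684.OQ Cfsg.Agent.H381.OQ
  Cfsg.Agent.ODD.PS Cfsg.Agent.ODD.FA Cfsg.Agent.GAL.Odd

section gen

variable {I W Y : Type} [Fintype I] [DecidableEq I] [Group W] [Finite W] [Group Y] [Finite Y]
  {M : CoxeterMatrix I} {cs : CoxeterSystem M W} {A : I → I → ℤ} {h : IsCartan M A} {p : ℕ} {T : Subgroup Y}
  {n : I → Y} {X : (I → ℤ) → Subgroup Y} {R : RGD cs h p T n X} {F : Type} [Field F] [Finite F] {k : ℕ}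
  (L : LD R F k) {lam : ↥T →* ℂˣ} {f : Fin (k + 1) → Fˣ →* ℂˣ}

theorem ld_ef (hl : Odd (Wst R lam).index) : L.Ef lam := fun _ hw =>
  le_of_odd_index hl (E := L.pw.ker) (fun w => ⟨1, Subtype.ext ((pow_two _).trans (L.pw_sq w w.2))⟩) hw

theorem ld_tw (hf : L.Rep f lam) (hl : Odd (Wst R lam).index) {w : W} (hw : w ∈ Wst R lam) :
    ∃ κ : Fˣ →* ℂˣ, (∀ δ ∈ L.Δ, κ δ = 1) ∧ ∀ i, f (L.pw w i) = κ * f i := by
  obtain ⟨κ, h1, h2⟩ := hf.twist (ld_ef L hl) hw
  exact ⟨κ, h1, fun i => MonoidHom.ext (h2 i)⟩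

theorem ld_odd (hf : L.Rep f lam) (hl : Odd (Wst R lam).index) : Odd (St f).index := by
  rw [← Subgroup.index_comap_of_surjective _ (f := L.pw) fun σ => (L.exists_pw' σ).imp fun _ h => h.2]
  exact hl.of_dvd_nat (Subgroup.index_dvd_of_le fun w hw => (ld_tw L hf hl hw).imp fun _ h => h.2)

include L in
theorem ld_sq (hl : Odd (Wst R lam).index) : ∀ w ∈ Wst R lam, w * w ∈ Rg R lam := fun w hw => by
  obtain ⟨f, hf⟩ := L.exists_rep lam
  obtain ⟨κ, -, h1⟩ := ld_tw L hf hl hw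
  exact hf.mem_Rg (ld_ef L hl) fun i => by rw [map_mul, Perm.mul_apply, tw_sq (ld_odd L hf hl) h1]

theorem fg_of_top (hΔ : L.Δ = ⊤) (hG : GG cs h T X = ⊤) (hnf : H69.OQ.NoFix cs h T X) : FG Y := by
  refine fg_of_le R hG L.T_comm hnf fun lam _ hl w hw => ?_
  obtain ⟨f, hf⟩ := L.exists_rep lam
  obtain ⟨κ, h1, h2⟩ := ld_tw L hf hl hw
  have h3 : κ = 1 := MonoidHom.ext fun x => h1 x (hΔ ▸ Subgroup.mem_top x)
  exact hf.mem_Rg (ld_ef L hl) fun i => by rw [h2, h3]; exact MonoidHom.ext fun x => one_mul _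

theorem ld_one (hΔ : L.Δ ≠ ⊤) (he : L.Ef lam) {t : ↥T} (ht : ∀ a, L.τ t a ∈ L.Δ) : lam t = 1 := by
  obtain ⟨f, hf⟩ := L.exists_rep lam
  rw [hf, ev_apply]
  refine prod_eq_one fun a _ => ?_
  obtain ⟨w, h1, h2⟩ := L.exists_pw' (swap a (Fin.last k))
  obtain ⟨g, hg⟩ := exists_rp cs R.nsys w
  have h3 := hf.conj h1 hg (LD.cj_cjl hg lam)
  obtain ⟨s, hs⟩ := L.τ_surj (d := Pi.mulSingle (Fin.last k) (L.τ t a)) (by simpa using ht a)
  have h4 := L.dich.resolve_left hΔ _ (fun j hj => cj_of_mem R L.T_comm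
    ((he.conj hg (LD.cj_cjl hg lam)) _ (L.pw_out j hj)) (rp_simple cs R.nsys j)) s s.2 fun a ha => by
      rw [← LD.τ_val, hs, Pi.mulSingle_eq_of_ne ha, Units.val_one]
  rwa [h3, hs, ev_single, h2, symm_swap, swap_apply_right] at h4

theorem fg_of_delta (hΔ : L.Δ ≠ ⊤) (hp : p.Prime) (hp2 : p ≠ 2) (hG : GG cs h T X = ⊤) (hnf : H69.OQ.NoFix cs h T X)
    {d : Y ≃* Y} (D : Diag R d) (hn : ∀ i a, L.τ ⟨(n i)⁻¹ * d (n i), D.mapN i⟩ a ∈ L.Δ) : FG Y := by
  have key : ∀ (w : W) (g : Y) (hg : Rp cs R.nsys w g) (lam : ↥T →* ℂˣ), L.Ef lam →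
      lam ⟨g⁻¹ * d g, D.mapRp w hg⟩ = 1 := by
    intro w
    induction w using cs.simple_induction_right with
    | one =>
      intro g hg lam _
      rw [← map_one lam]
      exact congrArg lam (Subtype.ext (by
        show g⁻¹ * d g = 1
        rw [D.fixT g hg.mem_of_one, inv_mul_cancel]))
    | mul_simple_right w i ih =>
      intro g hg lam he
      have hni := rp_simple cs R.nsys i
      have hk : Rp cs R.nsys w (g * (n i)⁻¹) := by
        have := hg.mul hni.inv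
        rwa [mul_inv_cancel_right] at this
      have h1 := ih _ hk _ (he.conj hni (LD.cj_cjl hni lam))
      rw [cjl_apply _ _ _ (conj_T' R hni (D.mapRp w hk))] at h1
      rw [← mul_one 1, ← congrArg₂ (· * ·) h1 (ld_one L hΔ he (hn i)), ← map_mul]
      refine congrArg lam (Subtype.ext ?_)
      show g⁻¹ * d g = (n i)⁻¹ * ((g * (n i)⁻¹)⁻¹ * d (g * (n i)⁻¹)) * n i * ((n i)⁻¹ * d (n i))
      rw [map_mul, map_inv]
      group
  exact fg_of_diag R hp hp2 hG L.T_comm hnf D fun lam _ hl => ⟨ld_sq L hl, fun w g hg _ => key w g hg lam (ld_ef L hl)⟩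

end gen

section SL

open Cfsg.Agent.Nodes.RGDTypeA Cfsg.Agent.Nodes.RootsA
open Cfsg.Agent.LieRecognition.BNCox (cA)
open Cfsg.Agent.TitsThree.KSideA (tv tv_add)

section conj

variable {ι F : Type} [Field F] [DecidableEq ι] [Fintype ι] (a : ι → Fˣ)

theorem dg_mul : (diagonal fun i => (a i : F)) * (diagonal fun i => ((a⁻¹ i : Fˣ) : F)) = 1 := by
  rw [diagonal_mul_diagonal, ← diagonal_one]
  simp

/-- the conjugate by a diagonal matrix -/
def dS (g : SpecialLinearGroup ι F) : SpecialLinearGroup ι F :=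
  ⟨(diagonal fun i => (a i : F)) * g.1 * (diagonal fun i => ((a⁻¹ i : Fˣ) : F)), by
    rw [det_mul, det_mul, g.2, mul_one, ← det_mul, dg_mul, det_one]⟩

theorem dS_apply (g : SpecialLinearGroup ι F) (i j : ι) : (dS a g).1 i j = a i * g.1 i j * (a j : F)⁻¹ := by
  simp [dS]

/-- the conjugation with a diagonal matrix -/
def dSL : SpecialLinearGroup ι F ≃* SpecialLinearGroup ι F where
  toFun := dS a
  invFun := dS a⁻¹
  left_inv g := Subtype.ext (Matrix.ext fun i j => by simp [dS_apply, mul_assoc])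
  right_inv g := Subtype.ext (Matrix.ext fun i j => by simp [dS_apply, mul_assoc])
  map_mul' g k := Subtype.ext (by
    have h1 := dg_mul a⁻¹
    rw [inv_inv] at h1
    show _ * (g.1 * k.1) * _ = _ * g.1 * _ * (_ * k.1 * _)
    simp only [mul_assoc]
    rw [← mul_assoc (diagonal fun i => ((a⁻¹ i : Fˣ) : F)), h1, one_mul])

theorem dSL_apply (g : SpecialLinearGroup ι F) (i j : ι) : (dSL a g).1 i j = a i * g.1 i j * (a j : F)⁻¹ := dS_apply a g i j

theorem dSL_tv {i j : ι} (hij : i ≠ j) (t : F) : dSL a (tv i j t) = tv i j (a i * t * (a j : F)⁻¹) := by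
  refine Subtype.ext (Matrix.ext fun k l => ?_)
  rw [dSL_apply, tv_val hij, tv_val hij, Matrix.add_apply, Matrix.add_apply, one_apply, single_apply, single_apply]
  split_ifs with h1 h2 h2
  · exact absurd (h2.1.trans (h1.trans h2.2.symm)) hij
  · simp [h1]
  · simp [h2.1, h2.2]
  · simp

theorem mono_dSL {σ : Perm ι} {g : SpecialLinearGroup ι F} (hg : Mono σ g) : Mono σ (dSL a g) := fun i j h =>
  hg i j fun h0 => h (by rw [dSL_apply, h0, mul_zero, zero_mul])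

end conj

variable (n : ℕ) (F : Type) [Field F] [Finite F] (p : ℕ) [Fact p.Prime] [CharP F p]

theorem diag_sl {u : Fˣ} (hu : (u : F)⁻¹ = 2) : haveI := finA n; Diag (rSL n F p) (dSL fun i => u ^ (i : ℕ)) :=
  haveI := finA n
  { fixT := fun t ht => Subtype.ext (Matrix.ext fun i j => by
      rw [dSL_apply]
      by_cases h0 : t.1 i j = 0
      · rw [h0, mul_zero, zero_mul]
      · rw [show i = j from ht i j h0, mul_comm, inv_mul_cancel_left₀ (Units.ne_zero _)])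
    mapX := fun x hx y hy => by
      obtain ⟨i, j, hij, rfl⟩ := exists_of_isRoot _ _ hx.1
      rw [X_rtA hij] at hy ⊢
      obtain ⟨t, rfl⟩ := hy
      rw [dSL_tv _ hij]
      exact tv_mem_XX _ _ _
    mapN := fun i => by
      have h1 := (mono_ns (F := F) i).inv.mul (mono_dSL (fun i : Fin (n + 1) => u ^ (i : ℕ)) (mono_ns i))
      rwa [inv_mul_cancel] at h1
    sq := fun i f x hx hx' => sq_of_eq f hx hx' (by
      rw [X_sr] at hx
      obtain ⟨t, rfl⟩ := hx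
      rw [dSL_tv _ i.castSucc_lt_succ.ne, ← tv_add]
      congr 1
      simp only [Fin.val_succ, Fin.val_castSucc, pow_succ, Units.val_mul, mul_inv, hu]
      field_simp
      ring) }

theorem fg_sl (hn : 2 ≤ n) (hp2 : p ≠ 2) : FG (SpecialLinearGroup (Fin (n + 1)) F) := by
  have := finA n
  have h2 : (2 : F) ≠ 0 := fun h => hp2 ((Nat.prime_dvd_prime_iff_eq Fact.out Nat.prime_two).1
    ((CharP.cast_eq_zero_iff F p 2).1 (by exact_mod_cast h)))
  set u : Fˣ := (Units.mk0 2 h2)⁻¹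
  set L := ldSL n F p
  refine fg_of_diag (rSL n F p) Fact.out hp2 (gg_sl n F) L.T_comm (H69.OQ.nofix_sl _ _ hn h2)
    (diag_sl n F p (u := u) (by simp [u])) fun lam _ hl => ⟨ld_sq L hl, fun w g hg hC => ?_⟩
  obtain ⟨f, hf⟩ := L.exists_rep lam
  obtain ⟨κ, -, h1⟩ := ld_tw L hf hl ⟨g, hg, hC⟩
  have h3 := DFunLike.congr_fun (tw_pow hn (ld_odd L hf hl) h1) u
  obtain ⟨v, h4, h5⟩ := L.exists_pw' (L.pw w)
  obtain rfl : v = w := mul_inv_eq_one.1 (pwA_inj n F p (by rw [map_mul, map_inv]; exact mul_inv_eq_one.2 h5))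
  have h6 : IsMon (L.pw v) g.1 := (L.mon_rp h4 hg).2.1
  rw [hf, L.τ_eq (d := fun j => u ^ (L.pw v j : ℕ) * (u ^ (j : ℕ))⁻¹) (by
    show (g⁻¹).1 * (_ * g.1 * _) = _
    rw [h6.diag_mul, ← mul_assoc, ← mul_assoc, show (g⁻¹).1 * g.1 = 1 from congrArg Subtype.val (inv_mul_cancel g),
      one_mul, diagonal_mul_diagonal]
    rfl), ev_apply]
  simp only [map_mul, map_inv, prod_mul_distrib, prod_inv_distrib]
  rw [mul_inv_eq_one, ← Equiv.prod_comp (L.pw v) fun j => f j (u ^ (j : ℕ))]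
  simp only [h1, MonoidHom.mul_apply, prod_mul_distrib]
  rw [Equiv.prod_comp (L.pw v) fun j => κ (u ^ (j : ℕ)), ← map_prod, prod_pow_eq_pow_sum, map_pow, ← MonoidHom.pow_apply,
    h3, MonoidHom.one_apply, one_mul]

end SL

/-- **`PSL_n(q)`**, `n ≥ 3`, `q` odd -/
theorem fg_psl {S : Type} [Group S] {F : Type} [Field F] [Fintype F] {n : ℕ} (hF : Odd (Fintype.card F)) (hn : 3 ≤ n)
    (e : S ≃* ProjectiveSpecialLinearGroup (Fin n) F) : FG S := by
  obtain ⟨n, rfl⟩ : ∃ k, n = k + 1 := ⟨n - 1, by omega⟩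
  have : Fact (ringChar F).Prime := ⟨CharP.char_is_prime F _⟩
  exact FG.of_surj (e.symm.toMonoidHom.comp (Nodes.RGDTypeA.pr n F))
    (e.symm.surjective.comp Nodes.RGDTypeA.pr_surjective) (fg_sl n F (ringChar F) (by omega) (two_ne_of_odd hF))

end Cfsg.Agent.GAL.TA
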