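import Cfsg.Agent.GAL.TA.SUD
import Cfsg.Agent.GAL.TA.SL
import Cfsg.Agent.ODD.FA.SU
import Cfsg.Agent.GAL.Nrm.Box

/-!
# GAL, odd `q`: `FG` for `SU_n(q)` and `PSU_n(q)`, `n ≥ 3` (helper46)

`fg_su`, `fg_psu`, **`psu`**.
-/

set_option autoImplicit false
set_option linter.unusedSectionVars false

namespace Cfsg.Agent.GAL.TA

open Cfsg Cfsg.Agent.GAL.Odd Cfsg.Agent.Nodes Cfsg.Agent.ODD.FA Cfsg.Agent.TitsThree.KSideU
  Cfsg.Agent.TitsThree.KSideUDesc Cfsg.Agent.H69.OQ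
open Cfsg.Agent.Nodes.WittU (amb_U exists_adm)

variable {F : Type} [Field F] [Fintype F] {q N : ℕ}

theorem fg_su (hF : Fintype.card F = q ^ 2) (hq : Odd q) (hN : 3 ≤ N) : FG (SU N F q) := by
  have : Fact (ringChar F).Prime := ⟨CharP.char_is_prime F _⟩
  have hp := ODD.FA.two_ne_of_odd (hF ▸ hq.pow)
  have h2 : (2 : F) ≠ 0 := Ring.two_ne_zero hp
  obtain ⟨t, j, ht, h⟩ := exists_two_elt hF hq
  obtain ⟨k, hk⟩ : ∃ k, N = 2 * (k + 1) ∨ N = 2 * (k + 1) + 1 := ⟨N / 2 - 1, by omega⟩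
  have := TypeC.finite_W (CoxeterMatrix.B (k + 1)).toCoxeterSystem
  rcases hk with hk | hk
  · obtain ⟨W, hV⟩ := exists_wframe_even hF hk
    obtain ⟨p0, hp0, hw0⟩ := exists_adm hF W
    have D := uf_even hF hq hN W hp0 hw0 hk hV
    have R := WittAll.rgdC_model _ (WittAll.AmbT.of_amb D.amb (ringChar F)) D.c0 (CoxeterMatrix.B (k + 1)).toCoxeterSystem
    have hG := GG_top (T := WittModel.T (H61.SUCross.modelSU hF hN W))
      (WittModel.G1_eq_top (H61.SUCross.modelSU hF hN W) k.succ_pos (CoxeterMatrix.B (k + 1)).toCoxeterSystem)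
    have hnf := nofix_tt (H61.SUCross.modelSU hF hN W) (CoxeterMatrix.B (k + 1)).toCoxeterSystem (amb_U hF W)
      (by omega) ht h
    let L := D.ld (fun _ => D.eq _) R
    by_cases hΔ : L.Δ = ⊤
    · exact fg_of_top L hΔ hG hnf
    obtain ⟨d, E, hd⟩ := exists_diag_su hF hN W hk h2 hp0 R
    refine fg_of_delta L hΔ Fact.out hp hG hnf E fun i a => ?_
    obtain ⟨s, hs, l, h1, h3, h4⟩ := hd i
    rw [show L.τ ⟨_, E.mapN i⟩ a = l (a, true) from Units.ext ((congrArg (fun x => L.ρ x a a) h1).trans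
      ((congrArg (fun x => mx _ x a a) (D.eq ⟨s, hs⟩)).trans ((mx_smul (h3 (a, true)) a).trans (if_pos rfl))))]
    exact Subgroup.zpowers_le.2 (Units.ext (map_ofNat (HU hF N).σ 2)) (h4 a)
  · obtain ⟨W, d, hd, hV⟩ := exists_wframe_odd hF hk
    obtain ⟨p0, hp0, hw0⟩ := exists_adm hF W
    have D := uf_odd hF hq hN W hp0 hw0 hd hV
    refine fg_of_top (D.ld (fun _ => D.eq _) (WittAll.rgdC_model _ (WittAll.AmbT.of_amb D.amb (ringChar F)) D.c0
      (CoxeterMatrix.B (k + 1)).toCoxeterSystem)) rfl (GG_top (WittModel.G1_eq_top _ k.succ_pos _)) ?_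
    rcases k with _ | k
    · exact nofix_su3 hF hq hN W hd hV _
    · exact nofix_tt _ _ (amb_U hF W) (by omega) ht h

/-- **`PSU_n(q)`**, `n ≥ 3`, `q` odd -/
theorem fg_psu {S : Type} [Group S] (h : ODD.PsuO S) : FG S := by
  obtain ⟨F, _, _, n, q, h1, h2, h3, ⟨e⟩⟩ := h
  exact FG.of_surj (e.symm.toMonoidHom.comp (QuotientGroup.mk' _))
    (e.symm.surjective.comp (QuotientGroup.mk'_surjective _)) (fg_su h2 (Nat.Odd.of_mul_left (pow_two q ▸ h2 ▸ h1)) h3)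

/-- the field `psu` of `OddSide` -/
theorem psu : Nrm.RowP ODD.PsuO fun S _ => FG S := fun _ _ _ _ h => fg_psu h

end Cfsg.Agent.GAL.TA
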