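import Cfsg.Agent.GAL.Odd.Gen
import Cfsg.Agent.ODD.PW.Lin

/-!
# GAL, odd `q`: diagonal isometries of a Witt frame (helper46)

* `dE hV l` : the diagonal map with the eigenvalues `l`; `ev_dE`, `tr_dE`, `iso_dE`;
* `diag_model` : the conjugation with a diagonal isometry is a diagonal automorphism (`V0 = 0`).
-/

set_option autoImplicit false
set_option linter.unusedSectionVars false

namespace Cfsg.Agent.GAL.TA

open CoxeterSystem Cfsg.Agent.ChevalleyStructure.CoxeterGeom Cfsg.Agent.Tits.Roots Cfsg.Agent.Nodes.Reps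
  Cfsg.Agent.Nodes.BNOf Cfsg.Agent.GAL.Odd Cfsg.Agent.ODD.PW Cfsg.Agent.Nodes
open Cfsg.Agent.TitsThree Cfsg.Agent.TitsThree.Siegel Cfsg.Agent.TitsThree.WittFrame Cfsg.Agent.TitsThree.WittWeyl
  Cfsg.Agent.TitsThree.FrameCN
open Cfsg.Agent.Nodes.WittRoot Cfsg.Agent.Nodes.WittRGD Cfsg.Agent.Nodes.TypeC

variable {F : Type} [Field F] {V : Type} [AddCommGroup V] [Module F V] {H : HForm F V} {n : ℕ}
  {Fr : WittFrame.Frame H (Fin n)}

/-- the pairing with a vector -/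
def pr (H : HForm F V) (w : V) : V →ₗ[F] F where
  toFun v := H.h v w
  map_add' v v' := H.add_left v v' w
  map_smul' c v := H.smul_left c v w

variable (Fr) in
/-- the coordinates -/
def cf (z : Fin n × Bool) : V →ₗ[F] F := (Fr.η (neg z))⁻¹ • pr H (Fr.b (neg z))

theorem cf_apply (z : Fin n × Bool) (v : V) : cf Fr z v = (Fr.η (neg z))⁻¹ * H.h v (Fr.b (neg z)) := rfl

theorem cf_b (z y : Fin n × Bool) : cf Fr z (Fr.b y) = if z = y then 1 else 0 := by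
  rw [cf_apply]
  split_ifs with h
  · rw [h, Fr.hb_self_neg, inv_mul_cancel₀ (Fr.η_ne _)]
  · rw [Fr.hb_ne fun e => h (by rw [← WittFrame.neg_neg z, e, WittFrame.neg_neg]), mul_zero]

theorem lin_ext (hV : ∀ v, (∀ x, H.h v (Fr.b x) = 0) → v ∈ Fr.V0) {B : Type} [AddCommGroup B] [Module F B]
    {f g : V →ₗ[F] B} (hb : ∀ z, f (Fr.b z) = g (Fr.b z)) (h0 : ∀ w ∈ Fr.V0, f w = g w) : f = g := by
  ext v
  have h1 : v - ∑ z, cf Fr z v • Fr.b z ∈ Fr.V0 := hV _ fun y => by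
    have h2 : cf Fr (neg y) (v - ∑ z, cf Fr z v • Fr.b z) = 0 := by
      simp [map_sub, map_sum, cf_b]
    rw [cf_apply, WittFrame.neg_neg] at h2
    exact (mul_eq_zero.1 h2).resolve_left (inv_ne_zero (Fr.η_ne y))
  have h2 := h0 _ h1
  simp only [map_sub, map_sum, map_smul, hb] at h2
  exact sub_left_injective h2

variable (Fr) in
/-- the diagonal map -/
def dl (l : Fin n × Bool → Fˣ) : V →ₗ[F] V := LinearMap.id + ∑ z, (cf Fr z).smulRight (((l z : F) - 1) • Fr.b z)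

theorem dl_b (l : Fin n × Bool → Fˣ) (z : Fin n × Bool) : dl Fr l (Fr.b z) = (l z : F) • Fr.b z := by
  simp [dl, cf_b, sub_smul]

theorem dl_V0 (l : Fin n × Bool → Fˣ) {w : V} (hw : w ∈ Fr.V0) : dl Fr l w = w := by
  simp [dl, cf_apply, Fr.h0' _ hw]

variable (hV : ∀ v, (∀ x, H.h v (Fr.b x) = 0) → v ∈ Fr.V0) (l : Fin n × Bool → Fˣ)

/-- the diagonal map -/
def dE : V ≃ₗ[F] V :=
  LinearEquiv.ofLinearMap (dl Fr l) (dl Fr l⁻¹)
    (lin_ext hV (fun z => by simp [dl_b, smul_smul]) fun w hw => by simp [dl_V0 _ hw])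
    (lin_ext hV (fun z => by simp [dl_b, smul_smul]) fun w hw => by simp [dl_V0 _ hw])

theorem ev_dE : Ev Fr (dE hV l) l := dl_b l

theorem tr_dE : Tr Fr (dE hV l) := fun _ hw => dl_V0 l hw

theorem iso_dE (hl : ∀ z, (l z : F) * H.σ (l (neg z)) = 1) : H.IsIso (dE hV l) := by
  have h1 : ∀ (z : Fin n × Bool) (w : V), H.σ (l z) * H.h (dE hV l w) (Fr.b z) = H.h w (Fr.b z) := fun z w => by
    refine DFunLike.congr_fun (lin_ext hV (f := H.σ (l z) • (pr H (Fr.b z)).comp (dE hV l).toLinearMap)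
      (g := pr H (Fr.b z)) (fun y => ?_) fun w hw => ?_) w
    · show H.σ (l z) * H.h (dE hV l (Fr.b y)) (Fr.b z) = H.h (Fr.b y) (Fr.b z)
      rw [ev_dE, H.smul_left]
      by_cases h : z = neg y
      · rw [h, ← mul_assoc, mul_comm (H.σ _), hl, one_mul]
      · rw [Fr.hb_ne h, mul_zero, mul_zero]
    · show H.σ (l z) * H.h (dE hV l w) (Fr.b z) = H.h w (Fr.b z)
      rw [tr_dE hV l w hw, Fr.h0' _ hw, mul_zero]
  intro v w
  refine DFunLike.congr_fun (lin_ext hV (f := (pr H (dE hV l w)).comp (dE hV l).toLinearMap) (g := pr H w)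
    (fun z => ?_) fun u hu => ?_) v
  · show H.h (dE hV l (Fr.b z)) (dE hV l w) = H.h (Fr.b z) w
    rw [ev_dE, H.swap, H.smul_right, h1, ← H.swap]
  · show H.h (dE hV l u) (dE hV l w) = H.h u w
    rw [tr_dE hV l u hu, H.swap, H.swap w]
    congr 2
    refine DFunLike.congr_fun (lin_ext hV (f := (pr H u).comp (dE hV l).toLinearMap) (g := pr H u)
      (fun z => ?_) fun x hx => ?_) w
    · show H.h (dE hV l (Fr.b z)) u = H.h (Fr.b z) u
      rw [ev_dE, H.smul_left, Fr.h0 z u hu, mul_zero]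
    · show H.h (dE hV l x) u = H.h x u
      rw [tr_dE hV l x hx]

variable {l} {D : V ≃ₗ[F] V}

omit hV in
theorem conj_rg (hi : H.IsIso D) (hl : Ev Fr D l) (ht : Tr Fr D) (y : Fin n → ℤ) {g : V ≃ₗ[F] V} (hg : g ∈ rg Fr y) :
    D * g * D⁻¹ ∈ rg Fr y := by
  have : rg Fr y ≤ (rg Fr y).comap (MulAut.conj D).toMonoidHom := by
    refine iSup_le ?_
    rintro ⟨⟨b, c⟩, h1, h2⟩ u hu
    show D * u * D⁻¹ ∈ rg Fr y
    replace hu : u ∈ PG Fr b c := hu
    replace h1 : Ok b c := h1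
    rw [rg_eq _ h1 h2]
    rcases h1 with h1 | rfl
    · rw [PG_ne _ h1] at hu ⊢
      obtain ⟨t, rfl⟩ := hu
      exact ⟨_, conj_X Fr hi h1 h1 (hl b) (hl c) t⟩
    · rw [PG_self] at hu ⊢
      obtain ⟨q, rfl⟩ := hu
      exact ⟨_, conj_Z Fr hi (hl b) q q (ht _ (Fr.ok_mem q.ok)) rfl⟩
  exact this hg

variable {K W : Type} [Group K] [Finite K] [Group W] [Finite W] {cs : CoxeterSystem (CoxeterMatrix.B n) W} {p : ℕ}
  (M : Model Fr K) {p0 : Fr.Adm} {hmem : ∀ i, nn Fr p0 i ∈ M.I}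

omit hV in
theorem ev_nn (hp0 : p0.c ≠ 0) (hl : Ev Fr D l) (i : Fin n) :
    Ev Fr ((nn Fr p0 i)⁻¹ * (D * nn Fr p0 i * D⁻¹)) fun z => l (sg i z) * (l z)⁻¹ := by
  have h2 := (hl.conj' (mono_nn hp0 i)).mul hl.inv
  rwa [mul_assoc, mul_assoc, ← mul_assoc D] at h2

omit hV in
/-- **the diagonal automorphism of a model** -/
theorem diag_model (R : RGD cs (isCartan n) p (WittModel.T M) (fun i => M.φ ⟨nn Fr p0 i, hmem i⟩) (WittModel.X M))
    (hA : Amb Fr M.I) (h0 : ∀ w ∈ Fr.V0, w = 0) (hp0 : p0.c ≠ 0) (hi : H.IsIso D) (hl : Ev Fr D l)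
    (h2 : ∀ i, (l (i, true) : F) * H.σ (l (nx i)) = 2) (hD : ∀ g ∈ M.I, D * g * D⁻¹ ∈ M.I) {d : K ≃* K}
    (hd : ∀ g hg, d (M.φ ⟨g, hg⟩) = M.φ ⟨D * g * D⁻¹, hD g hg⟩) : Diag R d where
  fixT := by
    rintro _ ⟨⟨t, ht0⟩, ht, rfl⟩
    obtain ⟨m, hm⟩ := exists_ev (show Mono Fr t id from ht.2)
    refine (hd t ht0).trans (congrArg M.φ (Subtype.ext ?_))
    exact ((hl.mul hm).mul hl.inv).ext hA hm (fun z => mul_inv_cancel_comm _ _) fun w hw => by
      rw [h0 w hw, map_zero, map_zero]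
  mapX a _ x hx := by
    obtain ⟨g, hg, h, rfl⟩ := (WittModel.mem_X M).1 hx
    rw [hd]
    exact WittModel.mem_X_of M _ (conj_rg hi hl (fun w hw => by rw [h0 w hw, map_zero]) a h)
  mapN i := by
    rw [hd, ← map_inv, ← map_mul]
    exact Subgroup.mem_map_of_mem _ (Subgroup.mem_subgroupOf.2 ⟨Subtype.property _, (ev_nn hp0 hl i).mono⟩)
  sq i f x hx hx' := sq_of_eq f hx hx' (by
    obtain ⟨g, hg, h, rfl⟩ := (WittModel.mem_X M).1 hx
    rw [hd, ← map_mul]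
    refine congrArg M.φ (Subtype.ext ?_)
    show D * g * D⁻¹ = g * g
    rw [rg_sr] at h
    rcases ok_nx i with h1 | h1
    · rw [PG_ne _ h1] at h
      obtain ⟨t, rfl⟩ := h
      rw [conj_X Fr hi h1 h1 (hl _) (hl _) t, h2, inv_mul_cancel_right₀ (Fr.η_ne _), two_mul, Fr.X_add]
    · have h3 := h2 i
      rw [← h1, PG_self] at h
      rw [← h1] at h3
      obtain ⟨q, rfl⟩ := h
      have h4 := h0 _ (Fr.ok_mem q.ok)
      rw [conj_Z Fr hi (hl _) q q (by rw [h4, map_zero]) rfl, ← Fr.Z_mul]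
      congr 1
      refine WittFrame.Frame.Adm.ext ?_ ?_
      · rw [WittFrame.Frame.Adm.smul_w, WittFrame.Frame.Adm.mul_w, h4, smul_zero, add_zero]
      · rw [WittFrame.Frame.Adm.smul_c, WittFrame.Frame.Adm.mul_c, h4, H.zero_left, mul_zero, sub_zero, H.σσ, mul_comm (H.σ _), h3, two_mul])

end Cfsg.Agent.GAL.TA
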