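import Cfsg.Agent.GAL.Ex.Sig

/-!
# GAL, odd `q`, types `A` and `²A`: permutations which multiply a function by a constant (helper46)

* `St ν` : the permutations `s` with `ν ∘ s = θ ν`;
* `tw_sq` : odd index gives `θ ^ 2 = 1`; `tw_pow` : `θ ^ (0 + 1 + .. + (n - 1)) = 1` for `n ≥ 3`.
-/

set_option autoImplicit false
set_option linter.unusedSectionVars false

namespace Cfsg.Agent.GAL.TA

open Equiv Cfsg.Agent.ODD.PS

section Perm

theorem ap_inv {ι : Type} (s : Perm ι) (i : ι) : s (s⁻¹ i) = i := s.apply_symm_apply i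

theorem inv_ap {ι : Type} (s : Perm ι) (i : ι) : s⁻¹ (s i) = i := s.symm_apply_apply i

variable {ι Γ : Type} [Fintype ι] [DecidableEq ι] [CommGroup Γ] (ν : ι → Γ)

/-- the permutations which multiply `ν` by a constant -/
def St : Subgroup (Perm ι) where
  carrier := {s | ∃ θ : Γ, ∀ i, ν (s i) = θ * ν i}
  one_mem' := ⟨1, fun i => (one_mul _).symm⟩
  mul_mem' := fun ⟨θ, h1⟩ ⟨φ, h2⟩ => ⟨θ * φ, fun i => by rw [Perm.mul_apply, h1, h2, mul_assoc]⟩
  inv_mem' := fun {s} ⟨θ, h1⟩ => ⟨θ⁻¹, fun i => by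
    rw [eq_inv_mul_iff_mul_eq, ← h1, ap_inv]⟩

/-- the constants -/
def Tw : Subgroup Γ where
  carrier := {θ | ∃ s : Perm ι, ∀ i, ν (s i) = θ * ν i}
  one_mem' := ⟨1, fun i => (one_mul _).symm⟩
  mul_mem' := fun ⟨s, h1⟩ ⟨t, h2⟩ => ⟨s * t, fun i => by rw [Perm.mul_apply, h1, h2, mul_assoc]⟩
  inv_mem' := fun ⟨s, h1⟩ => ⟨s⁻¹, fun i => by rw [eq_inv_mul_iff_mul_eq, ← h1, ap_inv]⟩

variable {ν}

theorem tw_sq (hodd : Odd (St ν).index) {s : Perm ι} {θ : Γ} (hs : ∀ i, ν (s i) = θ * ν i) (i : ι) :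
    ν (s (s i)) = ν i := by
  let r : Γ → Γ := fun a => (QuotientGroup.mk a : Γ ⧸ Tw ν).out
  have hr : ∀ a, a⁻¹ * r a ∈ Tw ν := fun a => QuotientGroup.eq.1 (QuotientGroup.out_eq' _).symm
  have hr2 : ∀ a, ∀ c ∈ Tw ν, r (c * a) = r a := fun a c hc => by
    have : (QuotientGroup.mk (c * a) : Γ ⧸ Tw ν) = QuotientGroup.mk a :=
      QuotientGroup.eq.2 (by rw [mul_inv_rev, mul_comm a⁻¹, inv_mul_cancel_right]; exact inv_mem hc)
    simp only [r, this]
  have h1 : ∀ a, ∃ t : Perm ι, ∀ j, ν (t j) = (a⁻¹ * r a) * (a⁻¹ * r a) * ν j := fun a => mul_mem (hr a) (hr a)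
  choose t ht using h1
  let io : Γ → Γ := fun a => (a⁻¹ * r a) * (a⁻¹ * r a) * a
  have h2 : ∀ a, ∀ c ∈ Tw ν, io (c * a) = c⁻¹ * io a := fun a c hc => by
    simp only [io, hr2 a c hc, mul_inv_rev]
    apply Additive.ofMul.injective
    simp only [ofMul_mul, ofMul_inv]
    abel
  have h3 : ∀ a, io (io a) = a := fun a => by
    rw [show io (io a) = io ((a⁻¹ * r a) * (a⁻¹ * r a) * a) from rfl, h2 a _ (mul_mem (hr a) (hr a))]
    exact inv_mul_cancel_left _ _
  have h4 : Function.Injective fun j => t (ν j) j := fun j k e => by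
    have e1 : t (ν j) j = t (ν k) k := e
    have e2 : io (ν j) = io (ν k) := (ht _ j).symm.trans ((congrArg ν e1).trans (ht _ k))
    have e3 : ν j = ν k := by rw [← h3 (ν j), e2, h3]
    rw [e3] at e1
    exact (t _).injective e1
  let g : Perm ι := Equiv.ofBijective _ (Finite.injective_iff_bijective.1 h4)
  have hg : ∀ j, ν (g j) = io (ν j) := fun j => ht _ j
  obtain ⟨φ, hφ⟩ : g ∈ St ν := by
    refine mem_of_odd_index hodd (Subgroup.mem_normalizer_fintype ?_) (k := 1) ⟨1, fun j => ?_⟩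
    · rintro u ⟨c, hc⟩
      refine ⟨c⁻¹, fun j => ?_⟩
      rw [Perm.mul_apply, Perm.mul_apply, hg, hc, h2 _ c ⟨u, hc⟩, ← hg, ap_inv]
    · rw [pow_one, pow_two, Perm.mul_apply, hg, hg, h3, one_mul]
  have h5 := hφ (s i)
  rw [hg, hs, h2 _ θ ⟨s, hs⟩, ← hg, hφ, mul_left_comm, mul_right_inj, inv_mul_eq_iff_eq_mul] at h5
  rw [hs, hs, ← h5]

theorem tw_pow {n : ℕ} (hn : 2 ≤ n) {ν : Fin (n + 1) → Γ} (hodd : Odd (St ν).index) {s : Perm (Fin (n + 1))} {θ : Γ}
    (hs : ∀ i, ν (s i) = θ * ν i) : θ ^ (∑ i : Fin (n + 1), (i : ℕ)) = 1 := by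
  classical
  have h1 : (∑ i : Fin (n + 1), (i : ℕ)) * 2 = (n + 1) * n := by
    rw [Fin.sum_univ_eq_sum_range (fun i => i) (n + 1), Finset.sum_range_id_mul_two, Nat.add_sub_cancel]
  rcases Nat.even_or_odd' n with ⟨k, rfl | rfl⟩
  · have h2 : θ ^ (2 * k + 1) = 1 := by
      have h3 := Equiv.prod_comp s ν
      simp only [hs, Finset.prod_mul_distrib, Finset.prod_const, Finset.card_univ, Fintype.card_fin] at h3
      exact mul_eq_right.1 h3
    rw [show (∑ i : Fin (2 * k + 1), (i : ℕ)) = (2 * k + 1) * k by linarith, pow_mul, h2, one_pow]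
  · obtain ⟨v, hv⟩ := Ex.exists_conj_mem hodd (Set.range fun i : Fin (2 * k + 1 + 1) => swap i i.rev) (by
      rintro _ ⟨i, rfl⟩ _ ⟨j, rfl⟩
      by_cases h2 : i = j
      · rw [h2]
      by_cases h3 : i = j.rev
      · simp only [h3, Fin.rev_rev, swap_comm j]
      refine (Perm.disjoint_swap_swap ?_).commute.eq
      have h4 : ∀ l : Fin (2 * k + 1 + 1), l ≠ l.rev := fun l h => by
        have := congrArg Fin.val h
        rw [Fin.val_rev] at this
        omega
      simp only [List.nodup_cons, List.mem_cons, List.not_mem_nil, or_false, not_or, List.nodup_nil, and_true,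
        not_false_eq_true, Fin.rev_inj]
      exact ⟨⟨h4 i, h2, h3⟩, ⟨fun h => h3 (by rw [← h, Fin.rev_rev]), h2⟩, h4 j⟩) (by
      rintro _ ⟨i, rfl⟩
      exact swap_mul_self _ _)
    have h2 : ∀ i, ν (v i.rev) = ν (v i) := fun i => by
      obtain ⟨c, hc⟩ := hv _ ⟨i, rfl⟩
      obtain ⟨j, hj⟩ : ∃ j : Fin (2 * k + 1 + 1), j ∉ ({i, i.rev} : Finset _) := by
        by_contra hcon
        push Not at hcon
        have h4 := (Finset.card_le_card fun j (_ : j ∈ Finset.univ) => hcon j).trans Finset.card_le_two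
        rw [Finset.card_univ, Fintype.card_fin] at h4
        omega
      rw [Finset.mem_insert, Finset.mem_singleton, not_or] at hj
      have h3 := hc (v j)
      have h4 := hc (v i)
      simp only [Perm.mul_apply, inv_ap, swap_apply_left, swap_apply_of_ne_of_ne hj.1 hj.2] at h3 h4
      rw [h4, right_eq_mul.1 h3, one_mul]
    let e : Fin (k + 1) → Fin (2 * k + 1 + 1) := fun i => ⟨i, by omega⟩
    have h3 : ∀ {B : Type} [AddCommMonoid B] (f : Γ → B), ∑ i, f (ν i) = 2 • ∑ i, f (ν (v (e i))) := fun f => by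
      rw [← Equiv.sum_comp v, ← Equiv.sum_comp (finCongr (show k + 1 + (k + 1) = 2 * k + 1 + 1 by omega)),
        Fin.sum_univ_add, two_nsmul, ← Equiv.sum_comp Fin.revPerm (fun i => f (ν (v (finCongr _ (Fin.natAdd _ i)))))]
      refine congrArg₂ _ rfl (Finset.sum_congr rfl fun i _ => ?_)
      rw [← h2 (e i)]
      congr 3
      ext
      simp [e]
      omega
    have h4 : ∑ i, ({θ * ν (v (e i))} : Multiset Γ) = ∑ i, ({ν (v (e i))} : Multiset Γ) := by
      have h5 := h3 fun a => ({θ * a} : Multiset Γ)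
      rw [Finset.sum_congr rfl fun i _ => by rw [← hs i], Equiv.sum_comp s fun i => ({ν i} : Multiset Γ),
        h3 fun a => ({a} : Multiset Γ)] at h5
      ext a
      have h6 := congrArg (Multiset.count a) h5
      rw [Multiset.count_nsmul, Multiset.count_nsmul] at h6
      omega
    have h5 := congrArg Multiset.prod h4
    simp only [Multiset.prod_sum, Multiset.prod_singleton, Finset.prod_mul_distrib, Finset.prod_const, Finset.card_univ,
      Fintype.card_fin] at h5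
    rw [show (∑ i : Fin (2 * k + 1 + 1), (i : ℕ)) = (k + 1) * (2 * k + 1) by linarith, pow_mul, mul_eq_right.1 h5, one_pow]

end Perm

end Cfsg.Agent.GAL.TA
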