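import Cfsg.Agent.GAL.TA.SL
import Cfsg.Agent.GAL.TS.Main

/-!
# GAL, odd `q`: the rows of `PSL_n(q)` (helper46)
-/

set_option autoImplicit false

namespace Cfsg.Agent.GAL.TA

open Cfsg Cfsg.Agent.GAL.Nrm Cfsg.Agent.ODD

/-- the field `psl1` of `OddSide` -/
theorem psl1 : RowP Psl1 fun S _ => FG S := TS.psl1_of fun _ _ _ _ _ _ _ _ hF hn e => fg_psl hF hn e

/-- the field `psl` of `BoxOdd` -/
theorem rowG_psl_odd : RowG PslO := rowG_psl psl1 TS.psl3

end Cfsg.Agent.GAL.TA
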