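import Cfsg.Agent.GAL.TA.Dia
import Cfsg.Agent.H61.SUCross
import Cfsg.Agent.H977.PG.Hyp

/-!
# GAL, odd `q`: the diagonal automorphism of `SU_{2m}(q)` (helper46)

**`exists_diag_su`**.
-/

set_option autoImplicit false
set_option linter.unusedSectionVars false

namespace Cfsg.Agent.GAL.TA

open Cfsg CoxeterSystem Cfsg.Agent.ChevalleyStructure.CoxeterGeom Cfsg.Agent.Tits.Roots Cfsg.Agent.Nodes.Reps
  Cfsg.Agent.Nodes.BNOf Cfsg.Agent.GAL.Odd Cfsg.Agent.ODD.PW Cfsg.Agent.Nodes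
open Cfsg.Agent.TitsThree Cfsg.Agent.TitsThree.Siegel Cfsg.Agent.TitsThree.WittFrame Cfsg.Agent.TitsThree.WittWeyl
  Cfsg.Agent.TitsThree.FrameCN Cfsg.Agent.TitsThree.SiegelGen Cfsg.Agent.TitsThree.WBridge Cfsg.Agent.TitsThree.KSideU
  Cfsg.Agent.TitsThree.KSideUDesc
open Cfsg.Agent.Nodes.WittRoot Cfsg.Agent.Nodes.WittRGD Cfsg.Agent.Nodes.TypeC Cfsg.Agent.Nodes.WittU
open Cfsg.Agent.H61.SUCross Cfsg.Agent.LieClassical.HermBasic

variable {F : Type} [Field F] [Fintype F] {q N m : ℕ} (hF : Fintype.card F = q ^ 2)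

theorem det_of_IU {g : (Fin N → F) ≃ₗ[F] (Fin N → F)} (hg : g ∈ IU F q N) : LinearEquiv.det g = 1 := by
  obtain ⟨A, rfl⟩ := hg
  have h1 : ((toLin F q N A : (Fin N → F) ≃ₗ[F] (Fin N → F)) : (Fin N → F) →ₗ[F] (Fin N → F)) =
      Matrix.toLin' A.1.1 := LinearMap.ext fun v => by
    rw [Matrix.toLin'_apply]
    rfl
  refine Units.ext ?_
  rw [LinearEquiv.coe_det, h1, LinearMap.det_toLin']
  exact A.1.2

variable {D : (Fin N → F) ≃ₗ[F] (Fin N → F)}

theorem conj_IU (hi : (HU hF N).IsIso D) : ∀ g ∈ IU F q N, D * g * D⁻¹ ∈ IU F q N := fun g hg =>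
  H977.PG.mem_IU_of hF ((hi.mul _ (isIso_IU hF hg)).mul _ (hi.inv _)) (by
    rw [← LinearEquiv.coe_det, map_mul, map_mul, det_of_IU hg, mul_one, map_inv, mul_inv_cancel, Units.val_one])

/-- the conjugation with an isometry -/
def cjI (hi : (HU hF N).IsIso D) : IU F q N ≃* IU F q N where
  toFun g := ⟨D * g.1 * D⁻¹, conj_IU hF hi _ g.2⟩
  invFun g := ⟨D⁻¹ * g.1 * D⁻¹⁻¹, conj_IU hF (hi.inv _) _ g.2⟩
  left_inv g := Subtype.ext (by simp only; group)
  right_inv g := Subtype.ext (by simp only; group)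
  map_mul' g h := Subtype.ext (by
    show D * (g.1 * h.1) * D⁻¹ = D * g.1 * D⁻¹ * (D * h.1 * D⁻¹)
    group)

variable (hN : 3 ≤ N) (W : WFrame (PU hF N) m) {G : Type} [Group G] [Finite G]
  {cs : CoxeterSystem (CoxeterMatrix.B m) G} {p : ℕ} {p0 : (toFrame W).Adm}
  {hmem : ∀ i, nn (toFrame W) p0 i ∈ (modelSU hF hN W).I}

/-- **the diagonal automorphism of `SU_{2m}(q)`** -/
theorem exists_diag_su (hm : N = 2 * m) (h2 : (2 : F) ≠ 0) (hp0 : p0.c ≠ 0)
    (R : RGD cs (isCartan m) p (WittModel.T (modelSU hF hN W))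
      (fun i => (modelSU hF hN W).φ ⟨nn (toFrame W) p0 i, hmem i⟩) (WittModel.X (modelSU hF hN W))) :
    ∃ d : SU N F q ≃* SU N F q, Diag R d ∧ ∀ i, ∃ (t : _) (ht : t ∈ IU F q N) (l : Fin m × Bool → Fˣ),
      ((modelSU hF hN W).φ ⟨nn (toFrame W) p0 i, hmem i⟩)⁻¹ * d ((modelSU hF hN W).φ ⟨nn (toFrame W) p0 i, hmem i⟩) =
        (modelSU hF hN W).φ ⟨t, ht⟩ ∧ Ev (toFrame W) t l ∧ ∀ a, l (a, true) ∈ Subgroup.zpowers (Units.mk0 2 h2) := by
  have hA := amb_U hF W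
  have h0 : ∀ w ∈ (toFrame W).V0, w = 0 := fun w hw => by
    have h1 := H716.RGDAb.finrank_V0 (Fr := toFrame W)
    rw [Module.finrank_fintype_fun_eq_card, Fintype.card_fin] at h1
    rwa [Submodule.finrank_eq_zero.1 (show Module.finrank F (toFrame W).V0 = 0 by omega), Submodule.mem_bot] at hw
  set u := Units.mk0 2 h2
  let s : Fˣ →* Fˣ := Units.map (HU hF N).σ.toMonoidHom
  have hs : ∀ x, ((s x : Fˣ) : F) = (HU hF N).σ x := fun _ => rfl
  have hss : ∀ x, s (s x) = x := fun x => Units.ext ((HU hF N).σσ x)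
  have hu : s u = u := Units.ext (map_ofNat (HU hF N).σ 2)
  obtain ⟨y0, hy0, hy⟩ := exists_norm_eq_ne hF (c := (2 : F)) (congrArg Units.val hu) h2
  set y := Units.mk0 y0 hy0
  have hy' : y * s y = u := Units.ext hy
  let l : Fin m × Bool → Fˣ := fun z => if z.2 then u ^ (m - 1 - z.1) * y else (s (u ^ (m - 1 - z.1) * y))⁻¹
  have l1 : ∀ i, l (i, true) = u ^ (m - 1 - i) * y := fun _ => rfl
  have l2 : ∀ i, l (i, false) = (s (u ^ (m - 1 - i) * y))⁻¹ := fun _ => rfl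
  have hi := iso_dE hA.V0 l fun z => by
    rw [← hs, ← Units.val_mul, Units.val_eq_one]
    obtain ⟨i, _ | _⟩ := z
    · exact inv_mul_cancel _
    · rw [show neg (i, true) = (i, false) from rfl, l1, l2, map_inv, hss, mul_inv_cancel]
  have hl := ev_dE hA.V0 l
  have hd : ∀ g hg, ((ofRange F q N).symm.trans ((cjI hF hi).trans (ofRange F q N))) ((modelSU hF hN W).φ ⟨g, hg⟩) =
      (modelSU hF hN W).φ ⟨_, conj_IU hF hi g hg⟩ := fun g hg =>
    congrArg (fun x => ofRange F q N (cjI hF hi x)) ((ofRange F q N).symm_apply_apply ⟨g, hg⟩)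
  refine ⟨_, diag_model (modelSU hF hN W) R hA h0 hp0 hi hl (fun i => ?_) (conj_IU hF hi) hd, fun i =>
    ⟨_, mul_mem (inv_mem (hmem i)) (conj_IU hF hi _ (hmem i)), _, ?_, ev_nn hp0 hl i, fun a => ?_⟩⟩
  · rw [← hs, ← Units.val_mul]
    refine congrArg Units.val (?_ : _ = u)
    unfold nx
    split_ifs with h
    · rw [l1, l2, map_inv, hss, show m - 1 - i = m - 1 - (i + 1) + 1 by omega, pow_succ', mul_assoc u,
        mul_inv_cancel_right]
    · rw [l1, show m - 1 - i = 0 by omega, pow_zero, one_mul, hy']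
  · rw [hd, ← map_inv, ← map_mul]
    rfl
  · have h3 := Subgroup.mem_zpowers u
    obtain ⟨i, _ | _⟩ := sg i (a, true)
    · rw [l1, l2, ← mul_inv, map_mul, map_pow, hu, mul_mul_mul_comm, mul_comm (s y), hy']
      exact inv_mem (mul_mem (mul_mem (pow_mem h3 _) (pow_mem h3 _)) h3)
    · rw [l1, l1, mul_inv, mul_mul_mul_comm, mul_inv_cancel, mul_one]
      exact mul_mem (pow_mem h3 _) (inv_mem (pow_mem h3 _))

end Cfsg.Agent.GAL.TA
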